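import Groth.Agent.Sga3.H8.MaxPt
import Groth.Agent.Sga3C.SchemImage
import Groth.Agent.Sga3C.GenPts
import Groth.Agent.CycB.RelDim4
import Mathlib.RingTheory.TensorProduct.IncludeLeftSubRight
import Mathlib.RingTheory.Flat.FaithfullyFlat.Basic

/-!
# Maximal points of a group scheme under a left invariant morphism

Let `G` be a quasi-compact group scheme over a field and `f : G ⟶ Z` a dominant morphism to a scheme
locally of finite type whose kernel relation is left invariant.  Then `f` maps maximal points of `G`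
to maximal points of `Z`.
-/

set_option autoImplicit false
universe u
open CategoryTheory MonoidalCategory CartesianMonoidalCategory MonObj GrpObj AlgebraicGeometry Limits

namespace Groth.Agent.Sga3.H822.MaxGen

open Groth.Agent.CycB.TrdegAlg Groth.Agent.CycB.RelDim Groth.Agent.Sga3.H8.MaxPt

theorem range_subset_of_fields {A₁ A₂ F : Type u} [CommRing A₁] [Field A₂] [Field F] (φ₁ : A₁ →+* F)
    (φ₂ : A₂ →+* F) (h : ∀ (R : Type u) [CommRing R] (i j : F →+* R), i.comp φ₂ = j.comp φ₂ →
      i.comp φ₁ = j.comp φ₁) : Set.range φ₁ ⊆ Set.range φ₂ := by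
  rintro _ ⟨c, rfl⟩
  let _ : Algebra A₂ F := φ₂.toAlgebra
  have key := Algebra.IsEffective.eqLocus_includeLeft_includeRight
    (Algebra.IsEffective.of_faithfullyFlat A₂ (S := F))
  change _ ∈ Set.range (algebraMap A₂ F)
  rw [← key]
  have h1 := h (TensorProduct A₂ F F) Algebra.TensorProduct.includeLeftRingHom
    (Algebra.TensorProduct.includeRight (R := A₂)).toRingHom (by
      ext r
      exact Algebra.TensorProduct.tmul_one_eq_one_tmul (A := F) (B := F) r)
  exact congr($(h1) c)

/-- If the kernel pair of `F₂` is contained in that of `F₁`, then at every point the residue field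
of the image under `F₁` is contained in that of the image under `F₂`. -/
theorem range_residueFieldMap_subset {X Y₁ Y₂ : Scheme.{u}} (F₁ : X ⟶ Y₁) (F₂ : X ⟶ Y₂)
    (h : ∀ (W : Scheme.{u}) (u v : W ⟶ X), u ≫ F₂ = v ≫ F₂ → u ≫ F₁ = v ≫ F₁) (w : X) :
    Set.range (F₁.residueFieldMap w).hom ⊆ Set.range (F₂.residueFieldMap w).hom := by
  refine range_subset_of_fields _ _ fun R _ i j hij => ?_
  let ii : X.residueField w ⟶ CommRingCat.of R := CommRingCat.ofHom i
  let jj : X.residueField w ⟶ CommRingCat.of R := CommRingCat.ofHom j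
  have h0 : F₂.residueFieldMap w ≫ ii = F₂.residueFieldMap w ≫ jj := by
    ext r
    exact congr($(hij) r)
  have h1 := h _ (Spec.map ii ≫ X.fromSpecResidueField w)
    (Spec.map jj ≫ X.fromSpecResidueField w) (by
    rw [Category.assoc, Category.assoc, ← Scheme.Hom.SpecMap_residueFieldMap_fromSpecResidueField,
      ← Spec.map_comp_assoc, ← Spec.map_comp_assoc, h0])
  rw [Category.assoc, Category.assoc, ← Scheme.Hom.SpecMap_residueFieldMap_fromSpecResidueField,
    ← Spec.map_comp_assoc, ← Spec.map_comp_assoc, cancel_mono, Spec.map_inj] at h1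
  ext r
  exact congr($(h1).hom r)

/-- Ring homs of fields with the same image: composites have the same transcendence degree. -/
theorem trd_eq_of_range {K A₁ A₂ F : Type u} [Field K] [Field A₁] [Field A₂] [Field F]
    (φ₁ : A₁ →+* F) (φ₂ : A₂ →+* F) (h : Set.range φ₁ = Set.range φ₂) (a₁ : K →+* A₁)
    (a₂ : K →+* A₂) (ha : φ₁.comp a₁ = φ₂.comp a₂) : trd a₁ = trd a₂ := by
  have h1 : ∀ c : A₁, ∃ d : A₂, φ₂ d = φ₁ c := fun c => by
    have : φ₁ c ∈ Set.range φ₂ := h ▸ ⟨c, rfl⟩
    exact this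
  choose e he using h1
  let e' : A₁ →+* A₂ :=
    { toFun := e
      map_one' := φ₂.injective (by rw [he, map_one, map_one])
      map_mul' := fun x y => φ₂.injective (by rw [he, map_mul, map_mul, he, he])
      map_zero' := φ₂.injective (by rw [he, map_zero, map_zero])
      map_add' := fun x y => φ₂.injective (by rw [he, map_add, map_add, he, he]) }
  have hs : Function.Surjective e' := fun d => by
    have : φ₂ d ∈ Set.range φ₁ := h ▸ ⟨d, rfl⟩
    obtain ⟨c, hc⟩ := this
    exact ⟨c, φ₂.injective ((he c).trans hc)⟩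
  have h2 : e'.comp a₁ = a₂ := by
    ext x
    apply φ₂.injective
    exact (he _).trans congr($(ha) x)
  rw [← h2, trd_comp_surjective _ _ hs]

/-- Same relative transcendence degree for two maps with the same kernel pair. -/
theorem rtd_eq {X Y₁ Y₂ B : Scheme.{u}} (F₁ : X ⟶ Y₁) (F₂ : X ⟶ Y₂) (p₁ : Y₁ ⟶ B) (p₂ : Y₂ ⟶ B)
    (hp : F₁ ≫ p₁ = F₂ ≫ p₂)
    (h : ∀ (W : Scheme.{u}) (u v : W ⟶ X), u ≫ F₁ = v ≫ F₁ ↔ u ≫ F₂ = v ≫ F₂) (w : X) :
    rtd p₁ (F₁ w) = rtd p₂ (F₂ w) := by
  have e1 := range_residueFieldMap_subset F₁ F₂ (fun W u v => (h W u v).2) w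
  have e2 := range_residueFieldMap_subset F₂ F₁ (fun W u v => (h W u v).1) w
  have hb : p₁ (F₁ w) = p₂ (F₂ w) := congr($hp w)
  have h3 : p₁.residueFieldMap (F₁ w) ≫ F₁.residueFieldMap w =
      (B.residueFieldCongr hb).hom ≫ p₂.residueFieldMap (F₂ w) ≫ F₂.residueFieldMap w := by
    rw [← Scheme.residueFieldMap_comp, ← Scheme.residueFieldMap_comp]
    exact Scheme.Hom.residueFieldMap_congr hp w
  have h4 := trd_eq_of_range (F₁.residueFieldMap w).hom (F₂.residueFieldMap w).hom
    (Set.Subset.antisymm e1 e2) (p₁.residueFieldMap (F₁ w)).hom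
    ((B.residueFieldCongr hb).hom ≫ p₂.residueFieldMap (F₂ w)).hom
    (by rw [← CommRingCat.hom_comp, ← CommRingCat.hom_comp, h3, Category.assoc])
  refine Eq.trans h4 ?_
  rw [CommRingCat.hom_comp]
  exact trd_comp_surjective' _ _
    (ConcreteCategory.bijective_of_isIso (B.residueFieldCongr hb).hom).2

variable {k : Type u} [Field k] {G Z : Over (Spec (CommRingCat.of k))} [GrpObj G]

/-- Transitivity on the maximal points: there is a maximal point `w` of `G × G` with second
projection `b` and product `a`. -/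
theorem exists_isMaxPt_prod (a b : G.left) (ha : IsMaxPt a) (hb : IsMaxPt b) :
    ∃ w : (G ⊗ G : Over (Spec (CommRingCat.of k))).left, IsMaxPt w ∧
      (snd G G).left w = b ∧ (μ[G] : G ⊗ G ⟶ G).left w = a := by
  obtain ⟨t, ht1, ht2⟩ := Scheme.Pullback.exists_preimage_pullback (f := G.hom) (g := G.hom) a b
    (Subsingleton.elim _ _)
  -- `(x, y) ↦ (x y⁻¹, y)`
  let m : G ⊗ G ⟶ G ⊗ G := lift (fst G G * (snd G G)⁻¹) (snd G G)
  have hm1 : m ≫ snd G G = snd G G := lift_snd _ _
  have hm2 : m ≫ μ[G] = fst G G := by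
    change lift (fst G G * (snd G G)⁻¹) (snd G G) ≫ μ[G] = fst G G
    rw [← Hom.mul_def, inv_mul_cancel_right]
  obtain ⟨w, hw, hwm⟩ := exists_isMaxPt (m.left t)
  refine ⟨w, hwm, ?_, ?_⟩
  · apply hb
    have h1 := hw.map (snd G G).left.continuous
    have h2 : (snd G G).left (m.left t) = b := by
      have := congr(($(hm1)).left t)
      rw [Over.comp_left] at this
      exact this.trans ht2
    rwa [h2] at h1
  · apply ha
    have h1 := hw.map (μ[G] : G ⊗ G ⟶ G).left.continuous
    have h2 : (μ[G] : G ⊗ G ⟶ G).left (m.left t) = a := by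
      have := congr(($(hm2)).left t)
      rw [Over.comp_left] at this
      exact this.trans ht1
    rwa [h2] at h1

theorem fibGeneric_of_isPullback {P X Y S : Scheme.{u}} {p : P ⟶ X} {q : P ⟶ Y} {f : X ⟶ S}
    {g : Y ⟶ S} (h : IsPullback p q f g) {w : P} (hw : IsMaxPt w) : FibGeneric g (q w) := by
  have h1 : IsMaxPt (h.isoPullback.hom w) := hw.map _
  have h2 : FibGeneric (pullback.fst f g) (h.isoPullback.hom w) := fun y _ hy => h1 y hy
  have h3 := h2.snd
  have h4 : pullback.snd f g (h.isoPullback.hom w) = q w := congr($(h.isoPullback_hom_snd) w)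
  rwa [h4] at h3

omit [GrpObj G] in
/-- The projection of the product to the second factor, at the image of a maximal point. -/
theorem rtd_fst_map (f : G ⟶ Z) {w : (G ⊗ G : Over (Spec (CommRingCat.of k))).left}
    (hw : IsMaxPt w) :
    rtd (fst G Z).left ((G ◁ f).left w) = rtd Z.hom (f.left ((snd G G).left w)) := by
  have h1 : FibGeneric (snd G Z).left ((G ◁ f).left w) :=
    fibGeneric_of_isPullback (Groth.Agent.Sga3C.SchemImage.isPullback_whiskerLeft_left f G).flip hw
  have h2 : (snd G Z).left ((G ◁ f).left w) = f.left ((snd G G).left w) :=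
    congr(($(whiskerLeft_snd G f)).left w)
  rw [← h2]
  exact rtd_fst_eq (f := G.hom) (g := Z.hom) ((G ◁ f).left w) fun t' _ h2 h3 => h1 t' h2 h3

variable (G) in
/-- The shear `(x, y) ↦ (x, x y)`. -/
noncomputable def shearL : G ⊗ G ≅ G ⊗ G where
  hom := lift (fst G G) μ[G]
  inv := lift (fst G G) ((fst G G)⁻¹ * snd G G)
  hom_inv_id := by
    refine CartesianMonoidalCategory.hom_ext _ _ ?_ ?_
    · simp
    · rw [Category.assoc, lift_snd, comp_mul, comp_inv, lift_fst, lift_snd, Category.id_comp,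
        show (μ[G] : G ⊗ G ⟶ G) = fst G G * snd G G by simp [Hom.mul_def], inv_mul_cancel_left]
  inv_hom_id := by
    refine CartesianMonoidalCategory.hom_ext _ _ ?_ ?_
    · simp
    · rw [Category.assoc, lift_snd, Category.id_comp, ← Hom.mul_def, mul_inv_cancel_left]

/-- Left invariance of the kernel relation, in terms of the shear. -/
theorem shearL_comp_iff (f : G ⟶ Z) (hf : ∀ (T : Over (Spec (CommRingCat.of k))) (a b c : T ⟶ G),
    a ≫ f = b ≫ f → (c * a) ≫ f = (c * b) ≫ f) {T : Over (Spec (CommRingCat.of k))}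
    (u v : T ⟶ G ⊗ G) :
    u ≫ (G ◁ f) = v ≫ (G ◁ f) ↔ u ≫ (shearL G).hom ≫ (G ◁ f) = v ≫ (shearL G).hom ≫ (G ◁ f) := by
  have e1 : ∀ u : T ⟶ G ⊗ G, u ≫ (G ◁ f) = lift (u ≫ fst G G) ((u ≫ snd G G) ≫ f) := fun u => by
    ext1 <;> simp
  have e2 : ∀ u : T ⟶ G ⊗ G, u ≫ (shearL G).hom ≫ (G ◁ f) =
      lift (u ≫ fst G G) (((u ≫ fst G G) * (u ≫ snd G G)) ≫ f) := fun u => by
    apply CartesianMonoidalCategory.hom_ext
    · simp [shearL]
    · simp [shearL, ← comp_mul, ← Category.assoc]
      rw [Hom.mul_def]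
      simp
  rw [e1, e1, e2, e2]
  constructor
  · intro h
    have h1 := congr($h ≫ fst _ _)
    have h2 := congr($h ≫ snd _ _)
    simp only [lift_fst, lift_snd] at h1 h2
    rw [h1, hf _ _ _ _ h2]
  · intro h
    have h1 := congr($h ≫ fst _ _)
    have h2 := congr($h ≫ snd _ _)
    simp only [lift_fst, lift_snd] at h1 h2
    have h3 := hf _ _ _ (u ≫ fst G G)⁻¹ h2
    rw [inv_mul_cancel_left, h1, inv_mul_cancel_left] at h3
    rw [h1, h3]

/-- **Key step**: the transcendence degrees of the residue fields of the images of two maximal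
points agree. -/
theorem rtd_eq_of_isMaxPt (f : G ⟶ Z) (hf : ∀ (T : Over (Spec (CommRingCat.of k))) (a b c : T ⟶ G),
    a ≫ f = b ≫ f → (c * a) ≫ f = (c * b) ≫ f) (a b : G.left) (ha : IsMaxPt a) (hb : IsMaxPt b) :
    rtd Z.hom (f.left a) = rtd Z.hom (f.left b) := by
  obtain ⟨w, hw, hwb, hwa⟩ := exists_isMaxPt_prod a b ha hb
  have h1 := rtd_fst_map f hw
  have h2 := rtd_fst_map f (hw.map (shearL G).hom.left)
  have hs : (snd G G).left ((shearL G).hom.left w) = a := by
    rw [← hwa]
    exact congr(($(lift_snd (fst G G) μ[G])).left w)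
  rw [hwb] at h1
  rw [hs] at h2
  rw [← h1, ← h2]
  symm
  have key := rtd_eq (G ◁ f).left ((shearL G).hom.left ≫ (G ◁ f).left) (fst G Z).left (fst G Z).left
    ?_ ?_ w
  · exact key
  · rw [← Over.comp_left, ← Over.comp_left, ← Over.comp_left]
    congr 1
    simp [shearL]
  · -- the kernel pairs agree
    intro W u v
    have key2 : ∀ (T : Over (Spec (CommRingCat.of k))) (u v : T ⟶ G ⊗ G),
        u ≫ (G ◁ f) = v ≫ (G ◁ f) ↔ u ≫ (shearL G).hom ≫ (G ◁ f) = v ≫ (shearL G).hom ≫ (G ◁ f) :=
      fun T u v => shearL_comp_iff f hf u v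
    constructor
    · intro h
      have hW : u ≫ (G ⊗ G).hom = v ≫ (G ⊗ G).hom := by
        rw [← Over.w (G ◁ f), reassoc_of% h]
      have := (key2 (Over.mk (u ≫ (G ⊗ G).hom)) (Over.homMk u rfl) (Over.homMk v hW.symm)).1
        (Over.OverMorphism.ext h)
      exact congr(($this).left)
    · intro h
      have hW : u ≫ (G ⊗ G).hom = v ≫ (G ⊗ G).hom := by
        rw [← Over.w ((shearL G).hom ≫ (G ◁ f)), Over.comp_left]
        simp only [Category.assoc] at h ⊢
        rw [reassoc_of% h]
      have := (key2 (Over.mk (u ≫ (G ⊗ G).hom)) (Over.homMk u rfl) (Over.homMk v hW.symm)).2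
        (Over.OverMorphism.ext h)
      exact congr(($this).left)

/-- **Perrin (ii).** `G` a quasi-compact group scheme over a field, `f : G ⟶ Z` a dominant morphism
to a scheme locally of finite type over `k` with left invariant kernel relation: then `f` maps
maximal points of `G` to maximal points of `Z`. -/
theorem isMaxPt_map [QuasiCompact G.hom] [LocallyOfFiniteType Z.hom] (f : G ⟶ Z)
    [IsDominant f.left] (hf : ∀ (T : Over (Spec (CommRingCat.of k))) (a b c : T ⟶ G),
      a ≫ f = b ≫ f → (c * a) ≫ f = (c * b) ≫ f) (x : G.left) (hx : IsMaxPt x) :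
    IsMaxPt (f.left x) := by
  have hZn : IsLocallyNoetherian Z.left := LocallyOfFiniteType.isLocallyNoetherian Z.hom
  have hqf : QuasiCompact (f.left ≫ Z.hom) := by rw [Over.w]; infer_instance
  have hqf' : QuasiCompact f.left := QuasiCompact.of_comp f.left Z.hom
  obtain ⟨z, hz, hzm⟩ := exists_isMaxPt (f.left x)
  -- `z` is in the image of `f`
  obtain ⟨y, hy⟩ : ∃ y, f.left y = z :=
    Groth.Agent.Sga3C.GenPts.mem_range_of_mem_closure_range f.left z (f.left.denseRange z) hzm
  obtain ⟨y', hy', hym⟩ := exists_isMaxPt y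
  have h1 : f.left y' = z := hzm _ (by rw [← hy]; exact hy'.map f.left.continuous)
  by_cases h : z = f.left x
  · rwa [← h]
  · exfalso
    have h2 := rtd_lt_of_specializes Z.hom hz h (Subsingleton.elim _ _)
    rw [← h1, rtd_eq_of_isMaxPt f hf x y' hx hym] at h2
    exact lt_irrefl _ h2

end Groth.Agent.Sga3.H822.MaxGen
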